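/-
Reflections as classes of 3-transpositions over the fields with two and three elements.
-/
import Cfsg.Agent.Lib.ReflectionGen
import Cfsg.Prelude.Def_FischerSpaces

set_option autoImplicit false

namespace CfsgReflClass

open QuadraticMap Matrix

variable {F : Type*} [Field F] {ι : Type} [Fintype ι] [DecidableEq ι] (Q : QuadraticForm F (ι → F))

theorem refl_mulVec (v x : ι → F) :
    Cfsg.reflectionMatrix (⇑Q) v *ᵥ x = x + (-((Q v)⁻¹ * polar (⇑Q) v x)) • v :=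
  CfsgLib.PolarVec.reflection_mulVec Q v x

/-- `g` is the reflection in `v`. -/
def IsRefl (g : ↥(Cfsg.isometryGroup F ⇑Q)) (v : ι → F) : Prop :=
  Q v ≠ 0 ∧ ∀ x, g.1.1 *ᵥ x = x + (-((Q v)⁻¹ * polar (⇑Q) v x)) • v

theorem iso_map (g : ↥(Cfsg.isometryGroup F ⇑Q)) (x : ι → F) : Q (g.1.1 *ᵥ x) = Q x := g.2 x x

theorem polar_map (g : ↥(Cfsg.isometryGroup F ⇑Q)) (x y : ι → F) :
    polar (⇑Q) (g.1.1 *ᵥ x) (g.1.1 *ᵥ y) = polar (⇑Q) x y := by
  simp only [polar, ← Matrix.mulVec_add, iso_map]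

theorem iso_ext {g h : ↥(Cfsg.isometryGroup F ⇑Q)} (e : ∀ x, g.1.1 *ᵥ x = h.1.1 *ᵥ x) : g = h :=
  Subtype.ext (Units.ext (Matrix.ext_of_mulVec_single fun _ => e _))

theorem iso_mul (g h : ↥(Cfsg.isometryGroup F ⇑Q)) (x : ι → F) :
    (g * h).1.1 *ᵥ x = g.1.1 *ᵥ (h.1.1 *ᵥ x) := (Matrix.mulVec_mulVec x g.1.1 h.1.1).symm

theorem iso_one (x : ι → F) : (1 : ↥(Cfsg.isometryGroup F ⇑Q)).1.1 *ᵥ x = x := Matrix.one_mulVec x

theorem polar_self_two (v : ι → F) : polar (⇑Q) v v = 2 * Q v := CfsgLib.PolarVec.polar_self Q v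

variable {Q}

theorem IsRefl.unique {g h : ↥(Cfsg.isometryGroup F ⇑Q)} {v : ι → F} (hg : IsRefl Q g v)
    (hh : IsRefl Q h v) : g = h := iso_ext Q fun x => by rw [hg.2, hh.2]

theorem isRefl_iff {g : ↥(Cfsg.isometryGroup F ⇑Q)} {v : ι → F} (hv : Q v ≠ 0) :
    IsRefl Q g v ↔ g.1.1 = Cfsg.reflectionMatrix (⇑Q) v :=
  ⟨fun h => Matrix.ext_of_mulVec_single fun _ => by rw [h.2, refl_mulVec],
    fun h => ⟨hv, fun x => by rw [h, refl_mulVec]⟩⟩

theorem IsRefl.exists {v : ι → F} (hv : Q v ≠ 0) : ∃ g : ↥(Cfsg.isometryGroup F ⇑Q), IsRefl Q g v := by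
  have hsq : Cfsg.reflectionMatrix (⇑Q) v * Cfsg.reflectionMatrix (⇑Q) v = 1 := by
    refine Matrix.ext_of_mulVec_single fun i => ?_
    rw [← Matrix.mulVec_mulVec, refl_mulVec, refl_mulVec, Matrix.one_mulVec, polar_add_right,
      polar_smul_right, polar_self_two]
    match_scalars <;> ring_nf <;> field_simp <;> ring
  have hiso : ∀ x, Q (Cfsg.reflectionMatrix (⇑Q) v *ᵥ x) = Q x := fun x => by
    rw [refl_mulVec, QuadraticMap.map_add Q, QuadraticMap.map_smul, polar_smul_right, polar_comm Q x v]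
    simp only [smul_eq_mul]
    field_simp
    ring
  exact ⟨⟨⟨_, _, hsq, hsq⟩, fun x _ => hiso x⟩, hv, fun x => refl_mulVec Q v x⟩

theorem IsRefl.conj {g r : ↥(Cfsg.isometryGroup F ⇑Q)} {v : ι → F} (h : IsRefl Q r v) :
    IsRefl Q (g * r * g⁻¹) (g.1.1 *ᵥ v) := by
  refine ⟨by rw [iso_map]; exact h.1, fun x => ?_⟩
  have hx : g.1.1 *ᵥ ((g⁻¹).1.1 *ᵥ x) = x := by rw [← iso_mul, mul_inv_cancel, iso_one]
  rw [iso_mul, iso_mul, h.2, Matrix.mulVec_add, Matrix.mulVec_smul, hx, iso_map,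
    ← polar_map Q g v ((g⁻¹).1.1 *ᵥ x), hx]

theorem IsRefl.sq {r : ↥(Cfsg.isometryGroup F ⇑Q)} {v : ι → F} (h : IsRefl Q r v) : r * r = 1 := by
  refine iso_ext Q fun x => ?_
  have hv := h.1
  rw [iso_mul, h.2, h.2, iso_one, polar_add_right, polar_smul_right, polar_self_two]
  match_scalars <;> ring_nf <;> field_simp <;> ring

theorem IsRefl.ne_one (hQ : (polarBilin Q).Nondegenerate) {r : ↥(Cfsg.isometryGroup F ⇑Q)} {v : ι → F}
    (h : IsRefl Q r v) : r ≠ 1 := by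
  intro he
  have hv : v ≠ 0 := fun e => h.1 (by rw [e, QuadraticMap.map_zero])
  refine hv (hQ.1 v fun x => ?_)
  have := h.2 x
  rw [he, iso_one, left_eq_add, smul_eq_zero] at this
  show polar (⇑Q) v x = 0
  simpa [h.1] using this.resolve_right hv

theorem IsRefl.orderOf (hQ : (polarBilin Q).Nondegenerate) {r : ↥(Cfsg.isometryGroup F ⇑Q)} {v : ι → F}
    (h : IsRefl Q r v) : _root_.orderOf r = 2 :=
  orderOf_eq_prime (by rw [pow_two, h.sq]) (h.ne_one hQ)

theorem braid_pow {G : Type*} [Group G] {d e : G} (hd : d * d = 1) (he : e * e = 1)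
    (h : d * e * d = e * d * e) : (d * e) ^ 3 = 1 := by
  calc (d * e) ^ 3 = (d * e * d) * (e * d * e) := by simp only [pow_succ, pow_zero, one_mul, mul_assoc]
    _ = (d * e * d) * (d * e * d) := by rw [← h]
    _ = d * e * (d * d) * e * d := by simp only [mul_assoc]
    _ = 1 := by rw [hd, mul_one, mul_assoc d e e, he, mul_one, hd]

/-! ### Two elements -/

section Two

variable {Q2 : QuadraticForm (ZMod 2) (ι → ZMod 2)}

theorem one_of_ne {t : ZMod 2} (h : t ≠ 0) : t = 1 := (by decide : ∀ t : ZMod 2, t ≠ 0 → t = 1) t h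

theorem refl2_apply {r : ↥(Cfsg.isometryGroup (ZMod 2) ⇑Q2)} {v : ι → ZMod 2} (h : IsRefl Q2 r v)
    (x : ι → ZMod 2) : r.1.1 *ᵥ x = x + polar (⇑Q2) v x • v := by
  rw [h.2, one_of_ne h.1, inv_one, one_mul, ZMod.neg_eq_self_mod_two]

theorem rank_one_iff (hQ : (polarBilin Q2).Nondegenerate) (g : ↥(Cfsg.isometryGroup (ZMod 2) ⇑Q2)) :
    (g.1.1 - 1).rank = 1 ↔ ∃ v, IsRefl Q2 g v := by
  constructor
  · intro hr
    obtain ⟨⟨a, ha⟩, ha0, hspan⟩ := finrank_eq_one_iff'.mp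
      (show Module.finrank (ZMod 2) (LinearMap.range (g.1.1 - 1).mulVecLin) = 1 from hr)
    have ha0' : a ≠ 0 := fun h => ha0 (Subtype.ext h)
    choose r hr' using fun x : ι → ZMod 2 =>
      hspan ⟨(g.1.1 - 1).mulVecLin x, LinearMap.mem_range_self _ _⟩
    have hg : ∀ x, g.1.1 *ᵥ x = x + r x • a := by
      intro x
      have h : r x • a = (g.1.1 - 1).mulVecLin x := congrArg Subtype.val (hr' x)
      rw [h, Matrix.mulVecLin_apply, Matrix.sub_mulVec, Matrix.one_mulVec, add_sub_cancel]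
    have key : ∀ x, r x = 0 ∨ Q2 a + polar (⇑Q2) x a = 0 := fun x => by
      have h := iso_map Q2 g x
      rw [hg, QuadraticMap.map_add Q2, QuadraticMap.map_smul, polar_smul_right, smul_eq_mul, smul_eq_mul] at h
      rcases (by decide : ∀ t : ZMod 2, t = 0 ∨ t = 1) (r x) with h0 | h0
      · exact Or.inl h0
      · right; rw [h0] at h; linear_combination h
    have radd : ∀ x y, r (x + y) = r x + r y := fun x y => by
      have h := hg (x + y)
      rw [Matrix.mulVec_add, hg, hg] at h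
      have : (r x + r y - r (x + y)) • a = 0 := by
        rw [sub_smul, add_smul]
        linear_combination (norm := module) h
      exact (sub_eq_zero.mp ((smul_eq_zero.mp this).resolve_right ha0')).symm
    obtain ⟨x₁, hx₁⟩ : ∃ x, r x ≠ 0 := by
      by_contra hc
      push Not at hc
      refine Nat.one_ne_zero (hr.symm.trans ?_)
      rw [show g.1.1 - 1 = 0 from Matrix.ext_of_mulVec_single fun i => by
        rw [Matrix.sub_mulVec, hg, hc, zero_smul, add_zero, Matrix.one_mulVec, sub_self,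
          Matrix.zero_mulVec], Matrix.rank_zero]
    have hone : ∀ x, r x ≠ 0 → polar (⇑Q2) x a = Q2 a := fun x hx =>
      (by decide : ∀ s t : ZMod 2, s + t = 0 → t = s) _ _ ((key x).resolve_left hx)
    have hzero : ∀ y, r y = 0 → polar (⇑Q2) y a = 0 := fun y hy => by
      have h1 := hone x₁ hx₁
      have h2 := hone (x₁ + y) (by rwa [radd, hy, add_zero])
      rw [polar_add_left, h1] at h2
      exact add_eq_left.mp h2
    have hQa : Q2 a ≠ 0 := fun h0 => ha0' (hQ.1 a fun y => by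
      show polar (⇑Q2) a y = 0
      rw [polar_comm]
      by_cases hy : r y = 0
      · exact hzero y hy
      · rw [hone y hy, h0])
    refine ⟨a, hQa, fun x => ?_⟩
    rw [hg, one_of_ne hQa, inv_one, one_mul, ZMod.neg_eq_self_mod_two, polar_comm]
    by_cases hx : r x = 0
    · rw [hzero x hx, hx]
    · rw [hone x hx, one_of_ne hx, one_of_ne hQa]
  · rintro ⟨v, hv⟩
    have hv0 : v ≠ 0 := fun e => hv.1 (by rw [e, QuadraticMap.map_zero])
    refine le_antisymm ?_ (Nat.one_le_iff_ne_zero.mpr fun h => ?_)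
    · have hle : LinearMap.range (g.1.1 - 1).mulVecLin ≤ Submodule.span (ZMod 2) {v} := by
        rintro _ ⟨x, rfl⟩
        rw [Matrix.mulVecLin_apply, Matrix.sub_mulVec, Matrix.one_mulVec, refl2_apply hv, add_sub_cancel_left]
        exact Submodule.mem_span_singleton.mpr ⟨_, rfl⟩
      exact (Submodule.finrank_mono hle).trans (finrank_span_singleton hv0).le
    · refine hv.ne_one hQ (iso_ext Q2 fun x => ?_)
      have h0 := LinearMap.congr_fun (LinearMap.range_eq_bot.mp (Submodule.finrank_eq_zero.mp h)) x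
      rw [Matrix.mulVecLin_apply, Matrix.sub_mulVec, Matrix.one_mulVec, LinearMap.zero_apply, sub_eq_zero] at h0
      rw [h0, iso_one]

theorem three_class_two (hQ : (polarBilin Q2).Nondegenerate) (hι : Fintype.card ι ≠ 4)
    (hex : ∃ v, Q2 v ≠ 0) :
    Cfsg.IsThreeTranspositionClass
      {g : ↥(Cfsg.isometryGroup (ZMod 2) ⇑Q2) | (g.1.1 - 1).rank = 1} := by
  have hmem : ∀ g : ↥(Cfsg.isometryGroup (ZMod 2) ⇑Q2),
      g ∈ {g : ↥(Cfsg.isometryGroup (ZMod 2) ⇑Q2) | (g.1.1 - 1).rank = 1} ↔ ∃ v, IsRefl Q2 g v :=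
    fun g => rank_one_iff hQ g
  refine ⟨⟨?_, ?_⟩, ?_, ?_⟩
  · intro d hd
    obtain ⟨u, hu⟩ := (hmem d).mp hd
    exact hu.orderOf hQ
  · intro d hd e he
    obtain ⟨u, hu⟩ := (hmem d).mp hd
    obtain ⟨v, hv⟩ := (hmem e).mp he
    have h1 := hv.conj (g := d)
    have h2 := hu.conj (g := e)
    rw [inv_eq_of_mul_eq_one_right hu.sq, refl2_apply hu] at h1
    rw [inv_eq_of_mul_eq_one_right hv.sq, refl2_apply hv, polar_comm] at h2
    rcases (by decide : ∀ t : ZMod 2, t = 0 ∨ t = 1) (polar (⇑Q2) u v) with h | h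
    · left
      rw [h, zero_smul, add_zero] at h1
      rw [pow_two, ← mul_assoc, h1.unique hv, hv.sq]
    · right
      rw [h, one_smul] at h1 h2
      rw [add_comm] at h2
      exact braid_pow hu.sq hv.sq (h1.unique h2)
  · obtain ⟨u, hu⟩ := hex
    obtain ⟨d, hd⟩ := IsRefl.exists hu
    refine ⟨d, (hmem d).mpr ⟨u, hd⟩, ?_⟩
    ext g
    rw [hmem, conjugatesOf, Set.mem_ofPred_eq, isConj_iff]
    constructor
    · rintro ⟨v, hv⟩
      have hu0 : u ≠ 0 := fun e => hu (by rw [e, QuadraticMap.map_zero])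
      have hv0 : v ≠ 0 := fun e => hv.1 (by rw [e, QuadraticMap.map_zero])
      obtain ⟨f, hf, -, hfu⟩ := CfsgLib.WittExtension.quad_move Q2 hQ ⊥ (x := u) (y := v)
        (by simpa using hu0) (by simpa using hv0) (by rw [one_of_ne hu, one_of_ne hv.1]) (by simp)
      have hM : ∀ x, LinearMap.toMatrix' (f : (ι → ZMod 2) →ₗ[ZMod 2] (ι → ZMod 2)) *ᵥ x = f x :=
        fun x => LinearMap.toMatrix'_mulVec _ _
      let c : ↥(Cfsg.isometryGroup (ZMod 2) ⇑Q2) := ⟨Matrix.GeneralLinearGroup.mkOfDetNeZero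
        (LinearMap.toMatrix' (f : (ι → ZMod 2) →ₗ[ZMod 2] (ι → ZMod 2)))
        (by rw [LinearMap.det_toMatrix']; exact f.isUnit_det'.ne_zero), fun x _ => by
          show Q2 (LinearMap.toMatrix' (f : (ι → ZMod 2) →ₗ[ZMod 2] (ι → ZMod 2)) *ᵥ x) = Q2 x
          rw [hM]; exact hf x⟩
      have hc := hd.conj (g := c)
      rw [show c.1.1 *ᵥ u = v from (hM u).trans hfu] at hc
      exact ⟨c, hc.unique hv⟩
    · rintro ⟨c, rfl⟩
      exact ⟨_, hd.conj⟩
  · rw [eq_top_iff, ← CfsgLib.ReflectionGen.matrix_closure Q2 hQ (Or.inr hι)]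
    refine Subgroup.closure_mono ?_
    rintro g ⟨v, hv, he⟩
    exact (hmem g).mpr ⟨v, (isRefl_iff hv).mpr he⟩

end Two

/-! ### Three elements -/

section Three

variable {n : ℕ} {Q3 : QuadraticForm (ZMod 3) (Fin n → ZMod 3)}

theorem inv_three {c : ZMod 3} (hc : c ≠ 0) : c⁻¹ = c := by
  refine inv_eq_of_mul_eq_one_right ?_
  exact (by decide : ∀ c : ZMod 3, c ≠ 0 → c * c = 1) c hc

/-- An anisotropic vector orthogonal to few mutually orthogonal anisotropic vectors. -/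
theorem exists_orth (hQ : (polarBilin Q3).Nondegenerate) {k : ℕ} (hk : k < n) (e : Fin k → Fin n → ZMod 3)
    (he : ∀ i, Q3 (e i) ≠ 0) (horth : ∀ i j, i ≠ j → polar (⇑Q3) (e i) (e j) = 0) :
    ∃ z, (∀ i, polar (⇑Q3) (e i) z = 0) ∧ Q3 z ≠ 0 := by
  let P : (Fin n → ZMod 3) →ₗ[ZMod 3] (Fin k → ZMod 3) := LinearMap.pi fun i => polarBilin Q3 (e i)
  obtain ⟨p, hp, hp0⟩ := Submodule.exists_mem_ne_zero_of_ne_bot (LinearMap.ker_ne_bot_of_finrank_lt (f := P)
    (by rw [Module.finrank_pi, Module.finrank_pi, Fintype.card_fin, Fintype.card_fin]; exact hk))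
  have hpe : ∀ i, polar (⇑Q3) (e i) p = 0 := fun i => congrFun (LinearMap.mem_ker.mp hp) i
  obtain ⟨y, hy⟩ : ∃ y, polar (⇑Q3) p y ≠ 0 := by
    by_contra hc
    push Not at hc
    exact hp0 (hQ.1 p hc)
  set y' := y - ∑ i, ((2 * Q3 (e i))⁻¹ * polar (⇑Q3) (e i) y) • e i with hy'
  have hye : ∀ j, polar (⇑Q3) (e j) y' = 0 := fun j => by
    rw [← polarBilin_apply_apply, hy', map_sub, map_sum, Finset.sum_eq_single j]
    · rw [map_smul, polarBilin_apply_apply, polarBilin_apply_apply, polar_self_two, smul_eq_mul,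
        mul_comm _ (polar (⇑Q3) (e j) y), mul_assoc,
        inv_mul_cancel₀ (mul_ne_zero (by decide) (he j)), mul_one, sub_self]
    · intro i _ hij
      rw [map_smul, polarBilin_apply_apply, horth j i (Ne.symm hij), smul_zero]
    · intro h; exact absurd (Finset.mem_univ j) h
  have hpy : polar (⇑Q3) p y' ≠ 0 := by
    rw [← polarBilin_apply_apply, hy', map_sub, map_sum]
    simp only [map_smul, polarBilin_apply_apply, polar_comm (⇑Q3) p (e _), hpe, smul_zero, Finset.sum_const_zero,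
      sub_zero]
    exact hy
  by_cases h1 : Q3 p ≠ 0
  · exact ⟨p, hpe, h1⟩
  by_cases h2 : Q3 y' ≠ 0
  · exact ⟨y', hye, h2⟩
  push Not at h1 h2
  refine ⟨p + y', fun i => by rw [polar_add_right, hpe, hye, add_zero], ?_⟩
  rw [QuadraticMap.map_add Q3, h1, h2, add_zero, zero_add]
  exact hpy

theorem braid_three {c : ZMod 3} (hc : c ≠ 0) {d e : ↥(Cfsg.isometryGroup (ZMod 3) ⇑Q3)}
    {u v : Fin n → ZMod 3} (hu : IsRefl Q3 d u) (hv : IsRefl Q3 e v) (cu : Q3 u = c) (cv : Q3 v = c)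
    (h : polar (⇑Q3) u v ≠ 0) : d * e * d = e * d * e := by
  have h1 := hv.conj (g := d)
  have h2 := hu.conj (g := e)
  rw [inv_eq_of_mul_eq_one_right hu.sq, hu.2, cu] at h1
  rw [inv_eq_of_mul_eq_one_right hv.sq, hv.2, cv, polar_comm (⇑Q3) v u] at h2
  have key : ∀ {r : ↥(Cfsg.isometryGroup (ZMod 3) ⇑Q3)} {w : Fin n → ZMod 3}, IsRefl Q3 r w → IsRefl Q3 r (-w) :=
    fun {r w} hr => ⟨by rw [QuadraticMap.map_neg]; exact hr.1, fun x => by
      rw [hr.2, QuadraticMap.map_neg, polar_neg_left]; module⟩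
  rcases (by decide : ∀ t : ZMod 3, t = 0 ∨ t = 1 ∨ t = -1) (c⁻¹ * polar (⇑Q3) u v) with hk | hk | hk
  · exact absurd hk (mul_ne_zero (inv_ne_zero hc) h)
  · rw [hk] at h1 h2
    have h2' := key h2
    rw [show -(u + (-1 : ZMod 3) • v) = v + (-1 : ZMod 3) • u by module] at h2'
    exact h1.unique h2'
  · rw [hk, neg_neg, one_smul] at h1 h2
    rw [add_comm] at h2
    exact h1.unique h2

/-- Between orthogonal vectors of the same norm, a third one meeting both. -/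
theorem exists_linking (hQ : (polarBilin Q3).Nondegenerate) (hn : 5 ≤ n) {c : ZMod 3} (hc : c ≠ 0)
    {u v : Fin n → ZMod 3} (cu : Q3 u = c) (cv : Q3 v = c) (h : polar (⇑Q3) u v = 0) :
    ∃ w, Q3 w = c ∧ polar (⇑Q3) u w ≠ 0 ∧ polar (⇑Q3) w v ≠ 0 := by
  have hz : ∃ z, polar (⇑Q3) u z = 0 ∧ polar (⇑Q3) v z = 0 ∧ Q3 z = -c := by
    obtain ⟨z, hz, hz0⟩ := exists_orth hQ (k := 2) (by omega) ![u, v]
      (by intro i; fin_cases i <;> simp [cu, cv, hc])
      (by intro i j hij; fin_cases i <;> fin_cases j <;> simp [h, polar_comm (⇑Q3) v u] at hij ⊢)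
    have hu := hz 0
    have hv := hz 1
    simp only [Matrix.cons_val_zero, Matrix.cons_val_one] at hu hv
    rcases (by decide : ∀ c t : ZMod 3, c ≠ 0 → t ≠ 0 → t = c ∨ t = -c) c (Q3 z) hc hz0 with e | e
    · obtain ⟨y, hy, hy0⟩ := exists_orth hQ (k := 3) (by omega) ![u, v, z]
        (by intro i; fin_cases i <;> simp [cu, cv, e, hc])
        (by intro i j hij; fin_cases i <;> fin_cases j <;>
          simp [h, hu, hv, polar_comm (⇑Q3) v u, polar_comm (⇑Q3) z u, polar_comm (⇑Q3) z v] at hij ⊢)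
      have yu := hy 0
      have yv := hy 1
      have yz : polar (⇑Q3) z y = 0 := hy 2
      simp only [Matrix.cons_val_zero, Matrix.cons_val_one] at yu yv
      rcases (by decide : ∀ c t : ZMod 3, c ≠ 0 → t ≠ 0 → t = c ∨ t = -c) c (Q3 y) hc hy0 with e' | e'
      · refine ⟨z + y, by rw [polar_add_right, hu, yu, add_zero], by rw [polar_add_right, hv, yv, add_zero], ?_⟩
        rw [QuadraticMap.map_add Q3, e, e', yz, add_zero]
        exact (by decide : ∀ c : ZMod 3, c + c = -c) c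
      · exact ⟨y, yu, yv, e'⟩
    · exact ⟨z, hu, hv, e⟩
  obtain ⟨z, hu, hv, hzc⟩ := hz
  refine ⟨u + v + z, ?_, ?_, ?_⟩
  · rw [QuadraticMap.map_add Q3, QuadraticMap.map_add Q3, cu, cv, h, hzc, polar_add_left, hu, hv]
    ring
  · rw [polar_add_right, polar_add_right, h, hu, polar_self_two, cu]
    simp [hc]
    decide
  · rw [polar_add_left, polar_add_left, h, polar_comm (⇑Q3) z v, hv, polar_self_two, cv]
    simp [hc]
    decide

theorem three_class_three (hQ : (polarBilin Q3).Nondegenerate) (hn : 5 ≤ n) {c : ZMod 3} (hc : c ≠ 0) :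
    Cfsg.IsThreeTranspositionClass {g : ↥(Cfsg.reflectionSubgroup (⇑Q3) c) |
      (g : ↥(Cfsg.isometryGroup (ZMod 3) (⇑Q3))) ∈ Cfsg.reflectionsOfNorm (⇑Q3) c} := by
  set R := Cfsg.reflectionsOfNorm (⇑Q3) c with hR
  have hRef : ∀ g ∈ R, ∃ v, Q3 v = c ∧ IsRefl Q3 g v := by
    rintro g ⟨v, hv, hm⟩
    exact ⟨v, hv, (isRefl_iff (hv ▸ hc)).mpr hm⟩
  have hmemR : ∀ (g : ↥(Cfsg.isometryGroup (ZMod 3) ⇑Q3)) v, Q3 v = c → IsRefl Q3 g v → g ∈ R :=
    fun g v hv hr => ⟨v, hv, (isRefl_iff hr.1).mp hr⟩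
  have hneR : R.Nonempty := by
    obtain ⟨z, -, hz⟩ := exists_orth hQ (k := 0) (by omega) ![] (fun i => i.elim0) (fun i => i.elim0)
    rcases (by decide : ∀ c t : ZMod 3, c ≠ 0 → t ≠ 0 → t = c ∨ t = -c) c (Q3 z) hc hz with e | e
    · obtain ⟨g, hg⟩ := IsRefl.exists hz
      exact ⟨g, hmemR g z e hg⟩
    · obtain ⟨y, hy, hy0⟩ := exists_orth hQ (k := 1) (by omega) ![z] (fun i => by fin_cases i; simpa using hz)
        (fun i j hij => absurd (Subsingleton.elim i j) hij)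
      have yz : polar (⇑Q3) z y = 0 := hy 0
      rcases (by decide : ∀ c t : ZMod 3, c ≠ 0 → t ≠ 0 → t = c ∨ t = -c) c (Q3 y) hc hy0 with e' | e'
      · obtain ⟨g, hg⟩ := IsRefl.exists hy0
        exact ⟨g, hmemR g y e' hg⟩
      · have hzy : Q3 (z + y) = c := by
          rw [QuadraticMap.map_add Q3, e, e', yz, add_zero]
          exact (by decide : ∀ c : ZMod 3, -c + -c = c) c
        obtain ⟨g, hg⟩ := IsRefl.exists (show Q3 (z + y) ≠ 0 from hzy ▸ hc)
        exact ⟨g, hmemR g _ hzy hg⟩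
  obtain ⟨d₀, hd₀⟩ := hneR
  have hnear : ∀ d e : ↥(Cfsg.reflectionSubgroup (⇑Q3) c), (∃ u v, Q3 u = c ∧ Q3 v = c ∧
      IsRefl Q3 d.1 u ∧ IsRefl Q3 e.1 v ∧ polar (⇑Q3) u v ≠ 0) → IsConj d e := by
    rintro d e ⟨u, v, cu, cv, hu, hv, h⟩
    refine isConj_iff.mpr ⟨d * e, Subtype.ext ?_⟩
    show d.1 * e.1 * d.1 * (d.1 * e.1)⁻¹ = e.1
    rw [braid_three hc hu hv cu cv h]
    group
  refine ⟨⟨?_, ?_⟩, ?_, ?_⟩
  · intro d hd
    obtain ⟨u, -, hu⟩ := hRef _ hd
    exact (orderOf_injective (Subgroup.subtype _) Subtype.val_injective d).symm.trans (hu.orderOf hQ)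
  · intro d hd e he
    obtain ⟨u, cu, hu⟩ := hRef _ hd
    obtain ⟨v, cv, hv⟩ := hRef _ he
    by_cases h : polar (⇑Q3) u v = 0
    · left
      have h1 := hv.conj (g := d.1)
      rw [inv_eq_of_mul_eq_one_right hu.sq, hu.2, h, mul_zero, neg_zero, zero_smul, add_zero] at h1
      refine Subtype.ext ?_
      show (d.1 * e.1) ^ 2 = 1
      rw [pow_two, ← mul_assoc, h1.unique hv, hv.sq]
    · right
      exact Subtype.ext (braid_pow hu.sq hv.sq (braid_three hc hu hv cu cv h))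
  · refine ⟨⟨d₀, Subgroup.subset_closure hd₀⟩, hd₀, Set.ext fun g => ⟨fun hg => ?_, fun hg => ?_⟩⟩
    · obtain ⟨u, cu, hu⟩ := hRef _ hd₀
      obtain ⟨v, cv, hv⟩ := hRef _ hg
      by_cases h : polar (⇑Q3) u v = 0
      · obtain ⟨w, cw, huw, hwv⟩ := exists_linking hQ hn hc cu cv h
        obtain ⟨r, hr⟩ := IsRefl.exists (show Q3 w ≠ 0 from cw ▸ hc)
        exact (hnear ⟨d₀, Subgroup.subset_closure hd₀⟩ ⟨r, Subgroup.subset_closure (hmemR r w cw hr)⟩
          ⟨u, w, cu, cw, hu, hr, huw⟩).trans (hnear ⟨r, _⟩ g ⟨w, v, cw, cv, hr, hv, hwv⟩)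
      · exact hnear ⟨d₀, Subgroup.subset_closure hd₀⟩ g ⟨u, v, cu, cv, hu, hv, h⟩
    · obtain ⟨k, rfl⟩ := isConj_iff.mp hg
      obtain ⟨u, cu, hu⟩ := hRef _ hd₀
      exact hmemR _ _ ((iso_map Q3 k.1 u).trans cu) hu.conj
  · exact Subgroup.closure_closure_coe_preimage

end Three

end CfsgReflClass
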