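/-
One norm class of reflections over three elements generates a subgroup of index two.
-/
import Cfsg.Agent.Lib.ReflClass.Basic
import Cfsg.Agent.Lib.SpinorMatrix

set_option autoImplicit false

namespace CfsgReflClass

open QuadraticMap Matrix CfsgLib.SpinorNorm CfsgLib.SpinorMatrix

variable {n : ℕ} {Q3 : QuadraticForm (ZMod 3) (Fin n → ZMod 3)}

theorem three_zero : (3 : ZMod 3) = 0 := rfl

theorem exists_orth_norm (hQ : (polarBilin Q3).Nondegenerate) {k : ℕ} (hk : k + 1 < n)
    (e : Fin k → Fin n → ZMod 3) (he : ∀ i, Q3 (e i) ≠ 0)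
    (horth : ∀ i j, i ≠ j → polar (⇑Q3) (e i) (e j) = 0) {c : ZMod 3} (hc : c ≠ 0) :
    ∃ z, (∀ i, polar (⇑Q3) (e i) z = 0) ∧ Q3 z = c := by
  obtain ⟨z, hz, hz0⟩ := exists_orth hQ (by omega) e he horth
  rcases (by decide : ∀ c t : ZMod 3, c ≠ 0 → t ≠ 0 → t = c ∨ t = -c) c (Q3 z) hc hz0 with h | h
  · exact ⟨z, hz, h⟩
  obtain ⟨y, hy, hy0⟩ := exists_orth hQ hk (Fin.cons z e : Fin (k + 1) → Fin n → ZMod 3)
    (fun i => by refine Fin.cases ?_ ?_ i <;> simp [hz0, he])
    (fun i j hij => by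
      revert hij
      refine Fin.cases ?_ (fun i => ?_) i <;> refine Fin.cases ?_ (fun j => ?_) j <;> intro hij
      · exact absurd rfl hij
      · simpa [polar_comm (⇑Q3) z] using hz j
      · simpa using hz i
      · simpa using horth i j (fun e => hij (by rw [e])))
  have hzy : polar (⇑Q3) z y = 0 := by simpa using hy 0
  have hye : ∀ i, polar (⇑Q3) (e i) y = 0 := fun i => by simpa using hy i.succ
  rcases (by decide : ∀ c t : ZMod 3, c ≠ 0 → t ≠ 0 → t = c ∨ t = -c) c (Q3 y) hc hy0 with h' | h'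
  · exact ⟨y, hye, h'⟩
  · refine ⟨z + y, fun i => by rw [polar_add_right, hz, hye, add_zero], ?_⟩
    rw [QuadraticMap.map_add Q3, h, h', hzy, add_zero]
    exact (by decide : ∀ c : ZMod 3, -c + -c = c) c

theorem common_orth (hQ : (polarBilin Q3).Nondegenerate) (hn : 5 ≤ n) {k : ZMod 3} (hk : k ≠ 0)
    {w w' : Fin n → ZMod 3} (hw : Q3 w = k) (hw' : Q3 w' = k) (hne : w' ≠ w) (hne' : w' ≠ -w)
    (h : polar (⇑Q3) w w' ≠ 0) :
    ∃ x, Q3 x = k ∧ polar (⇑Q3) w x = 0 ∧ polar (⇑Q3) w' x = 0 := by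
  obtain ⟨s, hs, hs1⟩ : ∃ s : ZMod 3, s * s = 1 ∧ s * polar (⇑Q3) w w' = k :=
    (by decide : ∀ a k : ZMod 3, a ≠ 0 → k ≠ 0 → ∃ s : ZMod 3, s * s = 1 ∧ s * a = k) _ k h hk
  set d := w + s • w' with hd
  have hdw : polar (⇑Q3) w d = 0 := by
    rw [hd, polar_add_right, polar_smul_right, polar_self_two, hw, smul_eq_mul, hs1]
    linear_combination k * three_zero
  have hQd : Q3 d = 0 := by
    rw [hd, QuadraticMap.map_add Q3, QuadraticMap.map_smul, hs, one_smul, hw, hw', polar_smul_right,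
      smul_eq_mul, hs1]
    linear_combination k * three_zero
  have hd0 : d ≠ 0 := by
    intro e
    rw [hd] at e
    rcases (by decide : ∀ s : ZMod 3, s * s = 1 → s = 1 ∨ s = -1) s hs with rfl | rfl
    · rw [one_smul] at e; exact hne' (eq_neg_of_add_eq_zero_right e)
    · rw [neg_smul, one_smul, ← sub_eq_add_neg, sub_eq_zero] at e; exact hne e.symm
  obtain ⟨y, hy⟩ : ∃ y, polar (⇑Q3) d y ≠ 0 := by
    by_contra e
    push Not at e
    exact hd0 (hQ.1 d e)
  have hdw' : polar (⇑Q3) d w = 0 := by rw [polar_comm]; exact hdw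
  set y' := y - ((2 * Q3 w)⁻¹ * polar (⇑Q3) w y) • w with hy'
  have hwy' : polar (⇑Q3) w y' = 0 := by
    rw [hy', polar_sub_right, polar_smul_right, polar_self_two, smul_eq_mul, hw,
      mul_comm _ (polar (⇑Q3) w y), mul_assoc, inv_mul_cancel₀ (mul_ne_zero (by decide) hk), mul_one, sub_self]
  have hdy' : polar (⇑Q3) d y' ≠ 0 := by
    rw [hy', polar_sub_right, polar_smul_right, hdw', smul_zero, sub_zero]
    exact hy
  obtain ⟨b, hb⟩ : ∃ b, b * polar (⇑Q3) d y' = 1 := ⟨_, inv_mul_cancel₀ hdy'⟩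
  set f := b • y' - Q3 (b • y') • d with hf
  have hwf : polar (⇑Q3) w f = 0 := by
    rw [hf, polar_sub_right, polar_smul_right, polar_smul_right, hwy', hdw, smul_zero, smul_zero, sub_zero]
  have hdd : polar (⇑Q3) d d = 0 := by rw [polar_self_two, hQd, mul_zero]
  have hdf : polar (⇑Q3) d f = 1 := by
    rw [hf, polar_sub_right, polar_smul_right, polar_smul_right, hdd, smul_zero, sub_zero, smul_eq_mul, hb]
  have hQf : Q3 f = 0 := by
    rw [hf, sub_eq_add_neg, ← neg_smul, QuadraticMap.map_add Q3, QuadraticMap.map_smul _ (-Q3 (b • y')) d, hQd,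
      smul_zero, add_zero, polar_smul_right, polar_smul_left, polar_comm (⇑Q3) y' d, smul_eq_mul, smul_eq_mul,
      hb, mul_one, add_neg_cancel]
  have hfd : polar (⇑Q3) f d = 1 := by rw [polar_comm]; exact hdf
  have hff : polar (⇑Q3) f f = 0 := by rw [polar_self_two, hQf, mul_zero]
  obtain ⟨x, hx, hxk⟩ := exists_orth_norm hQ (k := 3) (by omega) ![w, d + f, d - f]
    (fun i => by
      fin_cases i
      · simpa [hw] using hk
      · simp [QuadraticMap.map_add Q3, hQd, hQf, hdf]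
      · simp [sub_eq_add_neg, QuadraticMap.map_add Q3, hQd, hQf, hdf])
    (fun i j hij => by
      fin_cases i <;> fin_cases j <;>
        simp [polar_add_right, polar_add_left, polar_sub_right, polar_sub_left, hdw, hdw', hwf,
          polar_comm (⇑Q3) f w, hdd, hdf, hfd, hff] at hij ⊢) hk
  have x1 : polar (⇑Q3) w x = 0 := hx 0
  have x2 : polar (⇑Q3) (d + f) x = 0 := hx 1
  have x3 : polar (⇑Q3) (d - f) x = 0 := hx 2
  refine ⟨x, hxk, x1, ?_⟩
  rw [polar_add_left] at x2
  rw [polar_sub_left] at x3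
  have hdx : polar (⇑Q3) d x = 0 := by
    linear_combination -x2 - x3 + polar (⇑Q3) d x * three_zero
  rw [hd, polar_add_left, polar_smul_left, x1, zero_add, smul_eq_mul] at hdx
  exact (mul_eq_zero.mp hdx).resolve_left (fun e => by rw [e, zero_mul] at hs; exact zero_ne_one hs)

theorem refl_index (hQ : (polarBilin Q3).Nondegenerate) (hn : 5 ≤ n) {c : ZMod 3} (hc : c ≠ 0) :
    (Cfsg.reflectionSubgroup (⇑Q3) c).index = 2 := by
  classical
  set R := Cfsg.reflectionSubgroup (⇑Q3) c with hR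
  have hRef : ∀ g ∈ Cfsg.reflectionsOfNorm (⇑Q3) c, ∃ v, Q3 v = c ∧ IsRefl Q3 g v := by
    rintro g ⟨v, hv, hm⟩
    exact ⟨v, hv, (isRefl_iff (hv ▸ hc)).mpr hm⟩
  have hmemR : ∀ (g : ↥(Cfsg.isometryGroup (ZMod 3) ⇑Q3)) v, Q3 v = c → IsRefl Q3 g v → g ∈ R :=
    fun g v hv hr => Subgroup.subset_closure ⟨v, hv, (isRefl_iff hr.1).mp hr⟩
  haveI hnorm : R.Normal := ⟨fun x hx g => by
    have hle : R.map (MulAut.conj g).toMonoidHom ≤ R := by
      rw [hR, Cfsg.reflectionSubgroup, MonoidHom.map_closure, Subgroup.closure_le]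
      rintro _ ⟨r, hr, rfl⟩
      obtain ⟨v, hv, hr'⟩ := hRef r hr
      exact hmemR _ _ ((iso_map Q3 g v).trans hv) hr'.conj
    exact hle (Subgroup.mem_map_of_mem _ hx)⟩
  have hk : -c ≠ 0 := neg_ne_zero.mpr hc
  have orth : ∀ {a b : ↥(Cfsg.isometryGroup (ZMod 3) ⇑Q3)} {w x : Fin n → ZMod 3}, IsRefl Q3 a w →
      IsRefl Q3 b x → Q3 w = -c → Q3 x = -c → polar (⇑Q3) w x = 0 → a * b ∈ R := by
    intro a b w x ha hb hw hx hwx
    have hp : Q3 (w + x) = c := by
      rw [QuadraticMap.map_add Q3, hw, hx, hwx]; linear_combination (-c) * three_zero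
    have hm : Q3 (w - x) = c := by
      rw [sub_eq_add_neg, QuadraticMap.map_add Q3, QuadraticMap.map_neg, polar_neg_right, hw, hx, hwx]
      linear_combination (-c) * three_zero
    obtain ⟨p, hp'⟩ := IsRefl.exists (show Q3 (w + x) ≠ 0 by rw [hp]; exact hc)
    obtain ⟨m, hm'⟩ := IsRefl.exists (show Q3 (w - x) ≠ 0 by rw [hm]; exact hc)
    have : a * b = p * m := iso_ext Q3 fun y => by
      rw [iso_mul, iso_mul, hb.2, ha.2, hm'.2, hp'.2, hw, hx, hp, hm, inv_three hk, inv_three hc]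
      simp only [polar_add_right, polar_smul_right, polar_sub_left, polar_add_left, polar_self_two,
        polar_sub_right, polar_comm (⇑Q3) x w, hwx, hw, hx, smul_eq_mul]
      match_scalars
      · ring
      · linear_combination (c * polar (⇑Q3) x y) * three_zero
      · linear_combination (c * polar (⇑Q3) w y) * three_zero
    rw [this]
    exact mul_mem (hmemR p _ hp hp') (hmemR m _ hm hm')
  have key : ∀ {a b : ↥(Cfsg.isometryGroup (ZMod 3) ⇑Q3)} {w x : Fin n → ZMod 3}, IsRefl Q3 a w →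
      IsRefl Q3 b x → Q3 w = -c → Q3 x = -c → a * b ∈ R := by
    intro a b w x ha hb hw hx
    by_cases hwx : polar (⇑Q3) w x = 0
    · exact orth ha hb hw hx hwx
    by_cases he : x = w ∨ x = -w
    · have : IsRefl Q3 b w := by
        rcases he with rfl | rfl
        · exact hb
        · refine ⟨ha.1, fun y => ?_⟩
          rw [hb.2, QuadraticMap.map_neg, polar_neg_left]
          module
      rw [this.unique ha, ha.sq]
      exact one_mem R
    push Not at he
    obtain ⟨z, hz, hwz, hxz⟩ := common_orth hQ hn hk hw hx he.1 he.2 hwx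
    obtain ⟨e, he'⟩ := IsRefl.exists (show Q3 z ≠ 0 by rw [hz]; exact hk)
    have h1 := mul_mem (orth ha he' hw hz hwz)
      (orth he' hb hz hx (by rw [polar_comm]; exact hxz))
    rwa [mul_assoc, ← mul_assoc e, he'.sq, one_mul] at h1
  obtain ⟨w, -, hw⟩ := exists_orth_norm hQ (k := 0) (by omega) ![] (fun i => i.elim0) (fun i => i.elim0) hk
  obtain ⟨a, ha⟩ := IsRefl.exists (show Q3 w ≠ 0 by rw [hw]; exact hk)
  have haR : a ∉ R := by
    set hcl := hc_odd Q3 (by decide) hQ
    let χ : ↥(Cfsg.isometryGroup (ZMod 3) ⇑Q3) →* ℤˣ :=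
      (((if c = 1 then dicksonHom Q3 hQ hcl else 1) * levelSign Q3 1)).comp (isoEquiv Q3).toMonoidHom
    have hχ : ∀ (g : ↥(Cfsg.isometryGroup (ZMod 3) ⇑Q3)) v, IsRefl Q3 g v →
        χ g = (if c = 1 then -1 else 1) * (if IsSquare (Q3 v) then -1 else 1) := by
      intro g v hg
      have he : isoEquiv Q3 g = refl Q3 hg.1 := Subtype.ext (LinearEquiv.ext fun y => by
        rw [isoEquiv_apply, refl_apply, hg.2])
      show (((if c = 1 then dicksonHom Q3 hQ hcl else 1) * levelSign Q3 1)) (isoEquiv Q3 g) = _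
      rw [he, MonoidHom.mul_apply, levelSign_refl Q3 (by decide) hg.1 one_ne_zero, one_mul]
      by_cases h1 : c = 1
      · rw [if_pos h1, if_pos h1, dicksonHom_refl]
      · rw [if_neg h1, if_neg h1, MonoidHom.one_apply]
    have hval : (∀ t : ZMod 3, t = c → (if c = 1 then (-1 : ℤˣ) else 1) * (if IsSquare t then -1 else 1) = 1) ∧
        ∀ t : ZMod 3, t = -c → (if c = 1 then (-1 : ℤˣ) else 1) * (if IsSquare t then -1 else 1) = -1 := by
      have hs1 : IsSquare (1 : ZMod 3) := ⟨1, by decide⟩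
      have hs2 : ¬ IsSquare (-1 : ZMod 3) := by
        rintro ⟨r, hr⟩
        exact (by decide : ∀ r : ZMod 3, -1 ≠ r * r) r hr
      rcases (by decide : ∀ c : ZMod 3, c ≠ 0 → c = 1 ∨ c = -1) c hc with rfl | rfl
      · exact ⟨fun t ht => by subst ht; simp [hs1], fun t ht => by subst ht; simp [hs2]⟩
      · exact ⟨fun t ht => by subst ht; simp [hs2, show (-1 : ZMod 3) ≠ 1 by decide],
          fun t ht => by subst ht; simp [hs1, show (-1 : ZMod 3) ≠ 1 by decide]⟩
    intro haR
    have hle : R ≤ χ.ker := by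
      rw [hR, Cfsg.reflectionSubgroup, Subgroup.closure_le]
      intro g hg
      obtain ⟨v, hv, hg'⟩ := hRef g hg
      show χ g = 1
      rw [hχ g v hg', hval.1 _ hv]
    have := hle haR
    rw [MonoidHom.mem_ker, hχ a w ha, hval.2 _ hw] at this
    exact absurd this (by decide)
  rw [Subgroup.index_eq_two_iff]
  refine ⟨a, fun b => ?_⟩
  have hb : b ∈ R ∨ b * a ∈ R := by
    have hgen := CfsgLib.ReflectionGen.matrix_closure Q3 hQ (Or.inl ⟨-1, by decide, by decide⟩)
    have hmem : b ∈ Subgroup.closure _ := hgen ▸ Subgroup.mem_top b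
    induction hmem using Subgroup.closure_induction with
    | one => exact Or.inl (one_mem R)
    | mem g hg =>
      obtain ⟨v, hv, hg⟩ := hg
      have hg' := (isRefl_iff hv).mpr hg
      rcases (by decide : ∀ c t : ZMod 3, c ≠ 0 → t ≠ 0 → t = c ∨ t = -c) c (Q3 v) hc hv with e | e
      · exact Or.inl (hmemR g v e hg')
      · exact Or.inr (key hg' ha e hw)
    | mul x y _ _ hx hy =>
      rcases hx with hx | hx <;> rcases hy with hy | hy
      · exact Or.inl (mul_mem hx hy)
      · exact Or.inr (by rw [mul_assoc]; exact mul_mem hx hy)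
      · refine Or.inr ?_
        have := mul_mem hx (hnorm.conj_mem _ hy a⁻¹)
        rwa [inv_inv, show x * a * (a⁻¹ * y * a) = x * y * a by group] at this
      · refine Or.inl ?_
        have := mul_mem hx (hnorm.conj_mem _ hy a⁻¹)
        rwa [inv_inv, show x * a * (a⁻¹ * (y * a) * a) = x * y * (a * a) by group, ha.sq, mul_one] at this
    | inv x _ hx =>
      rcases hx with hx | hx
      · exact Or.inl (inv_mem hx)
      · refine Or.inr ?_
        have := hnorm.conj_mem _ (inv_mem hx) a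
        rwa [show a * (x * a)⁻¹ * a⁻¹ = x⁻¹ * (a⁻¹) by group, inv_eq_of_mul_eq_one_right ha.sq] at this
  rcases hb with h | h
  · exact Or.inr ⟨h, fun h' => haR (by simpa using mul_mem (inv_mem h) h')⟩
  · exact Or.inl ⟨h, fun h' => haR (by simpa using mul_mem (inv_mem h') h)⟩

end CfsgReflClass
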