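/-
The group generated by one class of reflections over three elements: quasisimple derived group, primitivity.
-/
import Cfsg.Agent.Lib.ReflClass.IndexTwo
import Cfsg.Agent.Lib.OmegaSimple
import Cfsg.Agent.Lib.ThreeTrans.Primitive

set_option autoImplicit false
set_option linter.style.haveILetI false

namespace CfsgReflClass

open QuadraticMap Matrix Module Cfsg
open CfsgLib.SpinorNorm CfsgLib.SpinorMatrix CfsgLib.WittExtension
open scoped commutatorElement

/-- A solvable normal subgroup of the isometry group is centralised by the commutators. -/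
theorem commute_of_solvable_normal {F : Type*} [Field F] [Finite F] {V : Type*} [AddCommGroup V] [Module F V]
    [FiniteDimensional F V] (Q : QuadraticForm F V) (hQ : (polarBilin Q).Nondegenerate) (hn : 5 ≤ finrank F V)
    (N : Subgroup (quadIso Q)) [N.Normal] (hN : Group.IsSolvable N) :
    ∀ x ∈ N, ∀ g h : quadIso Q, Commute x ⁅g, h⁆ := by
  classical
  set M := commutator (quadIso Q) with hM
  have hperf : ⁅M, M⁆ = M := by
    rw [hM, CfsgLib.OmegaSimple.commutator_eq Q hQ hn, CfsgLib.OmegaSimple.perfect Q hQ hn]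
  have hsimp : IsSimpleGroup (↥M ⧸ Subgroup.center ↥M) := by
    haveI := CfsgLib.OmegaSimple.simple Q hQ hn
    refine (QuotientGroup.congr (Subgroup.center ↥M) (Subgroup.center _)
      (MulEquiv.subgroupCongr (CfsgLib.OmegaSimple.commutator_eq Q hQ hn)) ?_).isSimpleGroup
    ext x
    constructor
    · rintro ⟨y, hy, rfl⟩
      refine Subgroup.mem_center_iff.mpr fun k => ?_
      obtain ⟨k, rfl⟩ := (MulEquiv.subgroupCongr (CfsgLib.OmegaSimple.commutator_eq Q hQ hn)).surjective k
      exact congrArg (MulEquiv.subgroupCongr (CfsgLib.OmegaSimple.commutator_eq Q hQ hn))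
        (Subgroup.mem_center_iff.mp hy k)
    · intro hx
      obtain ⟨y, rfl⟩ := (MulEquiv.subgroupCongr (CfsgLib.OmegaSimple.commutator_eq Q hQ hn)).surjective x
      exact ⟨y, Subgroup.mem_center_iff.mpr fun k =>
        (MulEquiv.subgroupCongr (CfsgLib.OmegaSimple.commutator_eq Q hQ hn)).injective
          (by rw [map_mul, map_mul]; exact Subgroup.mem_center_iff.mp hx _), rfl⟩
  have hcen : N ⊓ M ≤ (Subgroup.center M).map M.subtype := by
    have hperfM : commutator M = ⊤ := by
      refine Subgroup.map_injective M.subtype_injective ?_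
      rw [Subgroup.map_subtype_commutator, hperf, ← MonoidHom.range_eq_map, Subgroup.range_subtype]
    let q := QuotientGroup.mk' (Subgroup.center M)
    haveI : ((N.subgroupOf M).map q).Normal :=
      Subgroup.Normal.map inferInstance q (QuotientGroup.mk'_surjective _)
    rcases Subgroup.Normal.eq_bot_or_eq_top (H := (N.subgroupOf M).map q) inferInstance with h | h
    · intro x hx
      refine ⟨⟨x, hx.2⟩, ?_, rfl⟩
      have : q ⟨x, hx.2⟩ ∈ (N.subgroupOf M).map q := Subgroup.mem_map_of_mem _ hx.1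
      rw [h, Subgroup.mem_bot] at this
      exact (QuotientGroup.eq_one_iff _).mp this
    · exfalso
      haveI := hN
      haveI : Group.IsSolvable (N.subgroupOf M) := by
        let f : N.subgroupOf M →* N :=
          { toFun := fun x => ⟨(x.1 : quadIso Q), x.2⟩
            map_one' := rfl
            map_mul' := fun _ _ => rfl }
        exact Group.isSolvable_of_isSolvable_injective (f := f)
          fun a b e => Subtype.ext (Subtype.ext (congrArg (fun y : N => (y : quadIso Q)) e))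
      have hsurj : Function.Surjective (q.comp (N.subgroupOf M).subtype) := by
        intro y
        obtain ⟨z, hz, rfl⟩ := (h ▸ Subgroup.mem_top y : y ∈ (N.subgroupOf M).map q)
        exact ⟨⟨z, hz⟩, rfl⟩
      haveI : Group.IsSolvable (↥M ⧸ Subgroup.center ↥M) := Group.isSolvable_of_surjective hsurj
      haveI : Group.IsPerfect M := ⟨hperfM⟩
      have := IsSimpleGroup.comm_iff_isSolvable.mpr ‹Group.IsSolvable (↥M ⧸ Subgroup.center ↥M)›
      have hbot : commutator (↥M ⧸ Subgroup.center ↥M) = ⊥ := by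
        rw [_root_.commutator_def, Subgroup.commutator_eq_bot_iff_le_centralizer]
        intro a _
        exact Subgroup.mem_centralizer_iff.mpr fun b _ => this b a
      rw [(inferInstance : Group.IsPerfect (↥M ⧸ Subgroup.center ↥M)).commutator_eq_top] at hbot
      exact top_ne_bot hbot
  -- three subgroups
  have hNM : ⁅N, M⁆ ≤ N ⊓ M :=
    le_inf (Subgroup.commutator_le_left _ _) (Subgroup.commutator_le_right _ _)
  have hz : ⁅⁅N, M⁆, M⁆ = ⊥ := by
    rw [Subgroup.commutator_eq_bot_iff_le_centralizer]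
    intro x hx
    obtain ⟨y, hy, rfl⟩ := hcen (hNM hx)
    exact Subgroup.mem_centralizer_iff.mpr fun m hm =>
      congrArg Subtype.val (Subgroup.mem_center_iff.mp hy ⟨m, hm⟩)
  have h1 : ⁅⁅M, M⁆, N⁆ = ⊥ :=
    Subgroup.commutator_commutator_eq_bot_of_rotate (by rwa [Subgroup.commutator_comm M N]) hz
  rw [hperf, Subgroup.commutator_eq_bot_iff_le_centralizer] at h1
  intro x hx g h
  exact (Subgroup.mem_centralizer_iff.mp (h1 (Subgroup.commutator_mem_commutator (Subgroup.mem_top g)
    (Subgroup.mem_top h))) x hx)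

variable {n : ℕ} {Q3 : QuadraticForm (ZMod 3) (Fin n → ZMod 3)}

/-- Solvable characteristic subgroups of the reflection group are central. -/
theorem pCore_le_center (hQ : (polarBilin Q3).Nondegenerate) (hn : 5 ≤ n) {c : ZMod 3} (hc : c ≠ 0)
    {p : ℕ} (hp : p.Prime) :
    pCore p ↥(reflectionSubgroup (⇑Q3) c) ≤ Subgroup.center ↥(reflectionSubgroup (⇑Q3) c) := by
  classical
  haveI : Fact p.Prime := ⟨hp⟩
  set R := reflectionSubgroup (⇑Q3) c with hR
  have hRef : ∀ g ∈ reflectionsOfNorm (⇑Q3) c, ∃ v, Q3 v = c ∧ IsRefl Q3 g v := by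
    rintro g ⟨v, hv, hm⟩
    exact ⟨v, hv, (isRefl_iff (hv ▸ hc)).mpr hm⟩
  haveI hnorm : R.Normal := ⟨fun x hx g => by
    have hle : R.map (MulAut.conj g).toMonoidHom ≤ R := by
      rw [hR, reflectionSubgroup, MonoidHom.map_closure, Subgroup.closure_le]
      rintro _ ⟨r, hr, rfl⟩
      obtain ⟨v, hv, hr'⟩ := hRef r hr
      exact Subgroup.subset_closure ⟨_, (iso_map Q3 g v).trans hv, (isRefl_iff hr'.conj.1).mp hr'.conj⟩
    exact hle (Subgroup.mem_map_of_mem _ hx)⟩
  haveI : Finite ↥(isometryGroup (ZMod 3) ⇑Q3) := inferInstance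
  haveI := CfsgLib.pCore_characteristic (G := R) p
  haveI : ((pCore p R).map R.subtype).Normal := ConjAct.normal_of_characteristic_of_normal
  let e := isoEquiv Q3
  let N := ((pCore p R).map R.subtype).map e.toMonoidHom
  haveI : N.Normal := Subgroup.Normal.map inferInstance _ e.surjective
  have hNs : Group.IsSolvable N := by
    haveI : Finite (quadIso Q3) := Finite.of_equiv _ e.toEquiv
    have hpg : IsPGroup p N := ((CfsgLib.isPGroup_pCore p).map _).map _
    haveI := hpg.isNilpotent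
    infer_instance
  have hn' : 5 ≤ finrank (ZMod 3) (Fin n → ZMod 3) := by
    rw [Module.finrank_fintype_fun_eq_card, Fintype.card_fin]; exact hn
  intro x hx
  have hxN : e (x : ↥(isometryGroup (ZMod 3) ⇑Q3)) ∈ N :=
    Subgroup.mem_map_of_mem _ (Subgroup.mem_map_of_mem _ hx)
  obtain ⟨s, -, hs⟩ := CfsgLib.OmegaCenter.central_scalar Q3 hQ hn' (e x.1)
    (commute_of_solvable_normal Q3 hQ hn' N hNs _ hxN)
  refine Subgroup.mem_center_iff.mpr fun g => Subtype.ext (iso_ext Q3 fun y => ?_)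
  have hsx : ∀ y, x.1.1.1 *ᵥ y = s • y := fun y => by
    rw [← hs y, isoEquiv_apply]
  show (g.1 * x.1).1.1 *ᵥ y = (x.1 * g.1).1.1 *ᵥ y
  rw [iso_mul, iso_mul, hsx, hsx, Matrix.mulVec_smul]

theorem s5360 (hQ : (polarBilin Q3).Nondegenerate) (hn : 5 ≤ n) {c : ZMod 3} (hc : c ≠ 0) :
    IsQuasisimple (commutator ↥(reflectionSubgroup (⇑Q3) c)) ∧
      (commutator ↥(reflectionSubgroup (⇑Q3) c)).index ≤ 2 ∧
      generalizedFittingSubgroup ↥(reflectionSubgroup (⇑Q3) c) =
        Subgroup.center ↥(reflectionSubgroup (⇑Q3) c) ⊔ commutator ↥(reflectionSubgroup (⇑Q3) c) ∧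
      IsPrimitiveUnderConj {g : ↥(reflectionSubgroup (⇑Q3) c) |
        (g : ↥(isometryGroup (ZMod 3) (⇑Q3))) ∈ reflectionsOfNorm (⇑Q3) c} := by
  classical
  have hD := three_class_three hQ hn hc
  set D := {g : ↥(reflectionSubgroup (⇑Q3) c) |
      (g : ↥(isometryGroup (ZMod 3) (⇑Q3))) ∈ reflectionsOfNorm (⇑Q3) c} with hDdef
  have h2 := pCore_le_center hQ hn hc Nat.prime_two
  have h3 := pCore_le_center hQ hn hc Nat.prime_three
  have hRef : ∀ g ∈ reflectionsOfNorm (⇑Q3) c, ∃ v, Q3 v = c ∧ IsRefl Q3 g v := by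
    rintro g ⟨v, hv, hm⟩
    exact ⟨v, hv, (isRefl_iff (hv ▸ hc)).mpr hm⟩
  have mk : ∀ v, Q3 v = c → ∃ d ∈ D, IsRefl Q3 d.1 v := by
    intro v hv
    obtain ⟨g, hg⟩ := IsRefl.exists (show Q3 v ≠ 0 from hv ▸ hc)
    have hgm : g ∈ reflectionsOfNorm (⇑Q3) c := ⟨v, hv, (isRefl_iff hg.1).mp hg⟩
    exact ⟨⟨g, Subgroup.subset_closure hgm⟩, hgm, hg⟩
  have horth : ∀ {d e : ↥(reflectionSubgroup (⇑Q3) c)} {u v : Fin n → ZMod 3}, IsRefl Q3 d.1 u → IsRefl Q3 e.1 v →
      polar (⇑Q3) u v = 0 → Commute d e := by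
    intro d e u v hu hv h
    have h1 := hv.conj (g := d.1)
    rw [hu.2, h, mul_zero, neg_zero, zero_smul, add_zero] at h1
    exact Subtype.ext (mul_inv_eq_iff_eq_mul.mp (h1.unique hv))
  have hne : ∀ {d e : ↥(reflectionSubgroup (⇑Q3) c)} {u v : Fin n → ZMod 3}, Q3 u = c → IsRefl Q3 d.1 u →
      IsRefl Q3 e.1 v → polar (⇑Q3) u v = 0 → d ≠ e := by
    intro d e u v cu hu hv h hde
    subst hde
    have e1 := hu.2 u
    have e2 := hv.2 u
    rw [polar_self_two, cu, inv_three hc] at e1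
    rw [polar_comm (⇑Q3) v u, h, mul_zero, neg_zero, zero_smul, add_zero, e1] at e2
    have h2u : -(c * (2 * c)) • u = 0 := by simpa using e2
    rw [smul_eq_zero] at h2u
    rcases h2u with h2u | h2u
    · exact absurd h2u ((by decide : ∀ c : ZMod 3, c ≠ 0 → -(c * (2 * c)) ≠ 0) c hc)
    · exact hc (by rw [← cu, h2u, QuadraticMap.map_zero])
  obtain ⟨d₀, hd₀, -⟩ := hD.2.1
  obtain ⟨u₀, cu₀, hu₀⟩ := hRef _ hd₀
  obtain ⟨v₀, hv₀, cv₀⟩ := exists_orth_norm hQ (k := 1) (by omega) ![u₀]
    (fun i => by fin_cases i; simp [cu₀, hc]) (fun i j h => absurd (Subsingleton.elim i j) h) hc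
  have hpv : polar (⇑Q3) u₀ v₀ = 0 := hv₀ 0
  obtain ⟨e₀, he₀, he₀r⟩ := mk v₀ cv₀
  have hD2 : ∃ a ∈ D, ∃ b ∈ D, a ≠ b := ⟨d₀, hd₀, e₀, he₀, hne cu₀ hu₀ he₀r hpv⟩
  -- the commuting graph is connected
  have hstep : ∀ {d e : D} {u v : Fin n → ZMod 3}, Q3 u = c → IsRefl Q3 d.1.1 u → IsRefl Q3 e.1.1 v →
      polar (⇑Q3) u v = 0 → (commutingGraph D).Adj d e := by
    intro d e u v cu hu hv h
    refine (SimpleGraph.fromRel_adj _ _ _).mpr ⟨fun heq => hne cu hu hv h (congrArg Subtype.val heq), Or.inl ?_⟩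
    exact horth hu hv h
  have hconn : (commutingGraph D).Connected := by
    haveI : Nonempty D := ⟨⟨d₀, hd₀⟩⟩
    refine ⟨fun d e => ?_⟩
    obtain ⟨u, cu, hu⟩ := hRef _ d.2
    obtain ⟨v, cv, hv⟩ := hRef _ e.2
    by_cases he : v = u ∨ v = -u
    · have : IsRefl Q3 e.1.1 u := by
        rcases he with rfl | rfl
        · exact hv
        · refine ⟨hu.1, fun y => ?_⟩
          rw [hv.2, QuadraticMap.map_neg, polar_neg_left]
          module
      rw [show d = e from Subtype.ext (Subtype.ext (hu.unique this))]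
    push Not at he
    by_cases h : polar (⇑Q3) u v = 0
    · exact (hstep cu hu hv h).reachable
    obtain ⟨z, cz, huz, hvz⟩ := common_orth hQ hn hc cu cv he.1 he.2 h
    obtain ⟨f, hf, hfr⟩ := mk z cz
    have h1 : (commutingGraph D).Adj d ⟨f, hf⟩ := hstep cu hu hfr huz
    have h2' : (commutingGraph D).Adj ⟨f, hf⟩ e := hstep cz hfr hv (by rw [polar_comm]; exact hvz)
    exact h1.reachable.trans h2'.reachable
  have hidx := CfsgThreeTrans.index_le_two_of_connected hD hD2 h2 h3 hconn
  set L := layer ↥(reflectionSubgroup (⇑Q3) c) with hL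
  have heq : commutator ↥(reflectionSubgroup (⇑Q3) c) = L := by
    refine le_antisymm ?_ ?_
    · refine Subgroup.Normal.quotient_commutative_iff_commutator_le.mp ⟨⟨fun a b => ?_⟩⟩
      have hc2 : Nat.card (↥(reflectionSubgroup (⇑Q3) c) ⧸ L) ≤ 2 := by
        rw [← Subgroup.index_eq_card]; exact hidx
      haveI : IsCyclic (↥(reflectionSubgroup (⇑Q3) c) ⧸ L) := by
        have hpos : 0 < Nat.card (↥(reflectionSubgroup (⇑Q3) c) ⧸ L) := Nat.card_pos
        rcases Nat.lt_or_ge (Nat.card (↥(reflectionSubgroup (⇑Q3) c) ⧸ L)) 2 with h | h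
        · haveI : Subsingleton (↥(reflectionSubgroup (⇑Q3) c) ⧸ L) := (Nat.card_eq_one_iff_unique.mp (by omega)).1
          exact isCyclic_of_subsingleton
        · exact isCyclic_of_prime_card (p := 2) (by omega)
      letI : CommGroup (↥(reflectionSubgroup (⇑Q3) c) ⧸ L) := IsCyclic.commGroup
      exact mul_comm a b
    · rw [hL, ← CfsgLib.layer_commutator_self, _root_.commutator_def]
      exact Subgroup.commutator_mono le_top le_top
  refine ⟨?_, ?_, ?_, CfsgThreeTrans.primitive_of_index hD hD2 h2 h3 hidx⟩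
  · rw [heq]; exact CfsgThreeTrans.layer_quasisimple hD hD2 h2 h3
  · rw [heq]; exact hidx
  · rw [CfsgThreeTrans.generalized_eq hD h2 h3, heq, sup_comm]

end CfsgReflClass
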